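import Cfsg.Agent.H225.PPow.ChevF
import Cfsg.Agent.Nodes.CardSup

/-!
# Orders of parabolic subgroups from a table of the elements of `W_J` (helper225)

`card_PJ_gen`, `card_Sup_NW` are copied from H296/FFourPar (helper296), `closed_NW` from SigTab/AltFFour.
-/

set_option autoImplicit false
set_option linter.unusedSectionVars false

namespace Cfsg.Agent.H225.PPow.Card

open CoxeterSystem Subgroup Cfsg Cfsg.Lie Cfsg.Lie.ChevalleyDatum
open Cfsg.Agent.ChevalleyStructure Cfsg.Agent.ChevalleyStructure.Elts Cfsg.Agent.ChevalleyStructure.CoxeterGeom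
  Cfsg.Agent.ChevalleyStructure.CoxeterGeomTypes Cfsg.Agent.ChevalleyStructure.NPerm
  Cfsg.Agent.ChevalleyStructure.RootVec Cfsg.Agent.ChevalleyStructure.RootVecTab
open Cfsg.Agent.Tits.Roots Cfsg.Agent.Tits.Core Cfsg.Agent.Tits.RootComb Cfsg.Agent.Nodes.Comb
  Cfsg.Agent.Nodes.Reps Cfsg.Agent.Nodes.BNOf Cfsg.Agent.Nodes.StabComb Cfsg.Agent.Nodes.Bruhat
  Cfsg.Agent.Nodes.LeviDec Cfsg.Agent.Nodes.NormalForm Cfsg.Agent.Nodes.RGDChev
open Cfsg.Agent.KFacts.RgdChevCoord Cfsg.Agent.H225.PPow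

universe u

section Gen

variable {I W Y : Type*} [Fintype I] [DecidableEq I] [Group W] [Group Y] {M : CoxeterMatrix I}
  {cs : CoxeterSystem M W} {A : I → I → ℤ} {h : IsCartan M A} {p : ℕ} {T : Subgroup Y} {n : I → Y}
  {X : (I → ℤ) → Subgroup Y} (R : RGD cs h p T n X)

theorem closed_NW (w : W) : Cfsg.Agent.Nodes.Unique.Closed cs h (NW cs h w) := by
  intro x hx y hy z hz
  refine ⟨hz.1, RGD.nonneg_of_btwn hx.2.1 hy.2.1 hz, ?_⟩
  have h1 : (0 : I → ℤ) ≤ rep cs h w (-z) := by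
    refine RGD.nonneg_of_btwn (cs := cs) (h := h) (x := rep cs h w (-x)) (y := rep cs h w (-y))
      ?_ ?_ ((btwn_neg hz).act w)
    · rw [map_neg]; exact neg_nonneg.2 hx.2.2
    · rw [map_neg]; exact neg_nonneg.2 hy.2.2
  rw [map_neg] at h1
  exact neg_nonneg.1 h1

include R

/-- **The order of a parabolic subgroup.** -/
theorem card_PJ_gen [Finite W] [Finite Y] (J : Set I) [Fintype ↥(WJ cs J)] :
    Nat.card ↥(PJ cs h T X J) = Nat.card ↥(RGD.Sup X (RGD.Pos cs h)) * Nat.card ↥T *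
      ∑ w : ↥(WJ cs J), Nat.card ↥(RGD.Sup X (NW cs h (w : W))) := by
  classical
  have hex : ∀ w : W, ∃ k, Rp cs R.nsys w k := fun w => exists_rp cs R.nsys w
  choose k hk using hex
  have hNU : ∀ w : W, RGD.Sup X (NW cs h w) ≤ RGD.Sup X (RGD.Pos cs h) := fun w =>
    RGD.Sup_mono fun x hx => ⟨hx.1, hx.2.1⟩
  have hkt : ∀ (w : W) (t : ↥T), Rp cs R.nsys w (k w * t) := fun w t => (hk w).mul_mem_right t.2
  let f : (Σ w : ↥(WJ cs J), (↥(RGD.Sup X (RGD.Pos cs h)) × ↥T) × ↥(RGD.Sup X (NW cs h (w : W)))) →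
      ↥(PJ cs h T X J) := fun x => ⟨x.2.1.1 * (k x.1 * x.2.1.2) * x.2.2, by
    refine mul_mem (mul_mem (B_le_PJ (RGD.U_le_B x.2.1.1.2)) (LJ_le_PJ (rp_mem_LJ R x.1.2 (hkt _ _)))) (B_le_PJ
      (RGD.U_le_B (hNU _ x.2.2.2)))⟩
  have hf : Function.Bijective f := by
    constructor
    · rintro ⟨⟨w, hw⟩, ⟨⟨u, hu⟩, ⟨t, ht⟩⟩, ⟨v, hv⟩⟩ ⟨⟨w', hw'⟩, ⟨⟨u', hu'⟩, ⟨t', ht'⟩⟩, ⟨v', hv'⟩⟩ e
      have e1 : u * (k w * t) * v = u' * (k w' * t') * v' := congrArg Subtype.val e
      have c1 : Cell R.nsys cs h X w (u * (k w * t) * v) :=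
        ⟨u, RGD.U_le_B hu, k w * t, hkt w ⟨t, ht⟩, v, RGD.U_le_B (hNU w hv), rfl⟩
      have c2 : Cell R.nsys cs h X w' (u' * (k w' * t') * v') :=
        ⟨u', RGD.U_le_B hu', k w' * t', hkt w' ⟨t', ht'⟩, v', RGD.U_le_B (hNU w' hv'), rfl⟩
      have hww : w = w' := Cell.unique R c1 (by rw [e1]; exact c2)
      subst hww
      obtain ⟨rfl, h2, rfl⟩ := normal_form_unique R hu hu' (hkt w ⟨t, ht⟩) (hkt w ⟨t', ht'⟩) hv hv' e1
      have h3 : t = t' := mul_left_cancel h2
      subst h3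
      rfl
    · rintro ⟨g, hg⟩
      obtain ⟨w, hw, hc⟩ := (mem_PJ_iff_cell R).1 hg
      obtain ⟨u, hu, k', hk', v, hv, rfl⟩ := exists_normal_form R hc
      refine ⟨⟨⟨w, hw⟩, ⟨⟨u, hu⟩, ⟨_, (hk w).unique hk'⟩⟩, ⟨v, hv⟩⟩, Subtype.ext ?_⟩
      show u * (k w * ((k w)⁻¹ * k')) * v = u * k' * v
      group
  rw [← Nat.card_congr (Equiv.ofBijective f hf), Nat.card_sigma]
  simp only [Nat.card_prod]
  rw [Finset.mul_sum]

theorem card_Sup_NW [Finite W] {q : ℕ} (hX : ∀ x, IsRoot cs h x → Nat.card ↥(X x) = q) (w : W) :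
    Nat.card ↥(RGD.Sup X (NW cs h w)) = q ^ (NW cs h w).ncard := by
  classical
  have hfin : (NW cs h w).Finite := (RGD.finite_roots (cs := cs) (h := h)).subset fun _ hx => hx.1
  have h1 := Cfsg.Agent.Nodes.CardSup.card_sup R (s := hfin.toFinset) (by
    rw [Set.Finite.coe_toFinset]
    exact fun x hx => ⟨hx.1, hx.2.1⟩) (by
    rw [Set.Finite.coe_toFinset]
    exact closed_NW w)
  rw [Set.Finite.coe_toFinset] at h1
  rw [h1, Finset.prod_congr rfl (fun x hx => hX x ((Set.Finite.mem_toFinset hfin).1 hx).1), Finset.prod_const,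
    Set.ncard_eq_toFinset_card _ hfin]

end Gen

section Table

variable {D : ChevalleyDatum} {l : ℕ} {M : CoxeterMatrix (Fin l)} (hp : IsType D l M)
  {W : Type*} [Group W] (cs : CoxeterSystem M W)

/-- the images of the simple roots -/
def key (D : ChevalleyDatum) {l : ℕ} (ω : List (Fin l)) : List ℕ :=
  (List.finRange l).map (fun i : Fin l => wact D ω (D.simple (i : ℕ)))

/-- the number of inversions -/
def inv (D : ChevalleyDatum) {l : ℕ} (ω : List (Fin l)) : ℕ :=
  ((List.range D.nroots).filter fun r => decide (D.neg r < r) && !decide (D.neg (wact D ω r) < wact D ω r)).length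

/-- the check of the table of `W_J` -/
def chk (D : ChevalleyDatum) {l : ℕ} (J : List (Fin l)) (L : List (List (Fin l))) : Bool :=
  decide (L.map (key D)).Nodup && (L.map (key D)).contains (key D ([] : List (Fin l))) && (L.all fun ω => ω.all fun j => J.contains j) &&
  L.all fun ω => J.all fun j => (L.map (key D)).contains (key D (j :: ω))

include hp in
theorem eq_of_key {ω ω' : List (Fin l)} (e : key D ω = key D ω') : cs.wordProd ω = cs.wordProd ω' := by
  have h2 : (cs.wordProd ω)⁻¹ * cs.wordProd ω' = 1 := by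
    refine eq_one_of_nonneg cs hp.isCartan _ fun i => ?_
    have h4 := RootVec.simple_lt hp.checked (lt_rank hp i)
    have h3 : rep cs hp.isCartan (cs.wordProd ω') (sr i) = rep cs hp.isCartan (cs.wordProd ω) (sr i) := by
      rw [← vec_simple hp i, rep_word hp cs ω' h4, rep_word hp cs ω h4]
      congr 1
      have h5 := congrArg (fun L : List ℕ => L.getD i 0) e
      unfold key at h5
      have h6 : ∀ f : Fin l → ℕ, ((List.finRange l).map f).getD (i : ℕ) 0 = f i := by
        intro f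
        rw [List.getD_eq_getElem?_getD, List.getElem?_map, List.getElem?_eq_getElem (by simp)]
        simp
      rw [h6, h6] at h5
      exact h5.symm
    change 0 ≤ rep cs hp.isCartan ((cs.wordProd ω)⁻¹ * cs.wordProd ω') (sr i)
    rw [rep_mul_apply, h3, rep_inv_apply]
    exact sr_nonneg i
  exact inv_mul_eq_one.1 h2

include hp in
theorem key_eq {ω ω' : List (Fin l)} (e : cs.wordProd ω = cs.wordProd ω') : key D ω = key D ω' := by
  unfold key
  refine List.map_congr_left fun i _ => ?_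
  have h4 := RootVec.simple_lt hp.checked (lt_rank hp i)
  refine vec_inj hp (wact_lt hp ω h4) (wact_lt hp ω' h4) ?_
  rw [← rep_word hp cs ω h4, ← rep_word hp cs ω' h4, e]

include hp in
/-- the elements of `W_J` -/
theorem mem_WJ_iff {J : List (Fin l)} {L : List (List (Fin l))} (hc : chk D J L = true) (w : W) :
    w ∈ WJ cs {i | i ∈ J} ↔ ∃ ω ∈ L, cs.wordProd ω = w := by
  unfold chk at hc
  simp only [Bool.and_eq_true, decide_eq_true_eq, List.contains_iff_mem, List.all_eq_true] at hc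
  obtain ⟨⟨⟨-, h1⟩, h2⟩, h3⟩ := hc
  constructor
  · intro hw
    obtain ⟨ω, hω, rfl⟩ := Cfsg.Agent.Tits.Exchange.exists_word_of_mem_WJ cs hw
    clear hw
    induction ω with
    | nil =>
      rw [List.mem_map] at h1
      obtain ⟨ω, hωL, e⟩ := h1
      exact ⟨ω, hωL, eq_of_key hp cs e⟩
    | cons j ω ih =>
      obtain ⟨ω', hω', e⟩ := ih fun j hj => hω j (by simp [hj])
      have h4 := h3 ω' hω' j (hω j (by simp))
      rw [List.mem_map] at h4
      obtain ⟨ω'', hω'', e''⟩ := h4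
      refine ⟨ω'', hω'', ?_⟩
      rw [eq_of_key hp cs e'', wordProd_cons, wordProd_cons, e]
  · rintro ⟨ω, hω, rfl⟩
    have h4 := h2 ω hω
    clear hω
    induction ω with
    | nil => rw [wordProd_nil]; exact one_mem _
    | cons j ω ih =>
      rw [wordProd_cons]
      exact mul_mem (Cfsg.Agent.Tits.Exchange.simple_mem_WJ cs (h4 j (by simp))) (ih fun j hj => h4 j (by simp [hj]))

include hp in
/-- sums over `W_J` -/
theorem sum_WJ {J : List (Fin l)} {L : List (List (Fin l))} (hc : chk D J L = true) [Fintype ↥(WJ cs {i | i ∈ J})]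
    (f : W → ℕ) : ∑ w : ↥(WJ cs {i | i ∈ J}), f w = (L.map fun ω => f (cs.wordProd ω)).sum := by
  classical
  have hnd : (L.map cs.wordProd).Nodup := by
    have h1 : (L.map (key D)).Nodup := by
      unfold chk at hc
      simp only [Bool.and_eq_true, decide_eq_true_eq] at hc
      exact hc.1.1.1
    refine List.Nodup.map_on ?_ h1.of_map
    intro ω hω ω' hω' e
    exact List.inj_on_of_nodup_map h1 hω hω' (key_eq hp cs e)
  have h1 : ((L.map cs.wordProd).toFinset).sum f = (L.map fun ω => f (cs.wordProd ω)).sum := by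
    rw [List.sum_toFinset f hnd, List.map_map]
    rfl
  rw [← h1]
  refine Finset.sum_bij' (fun w _ => (w : W)) (fun w hw => ⟨w, ?_⟩) ?_ ?_ ?_ ?_ ?_
  · rw [List.mem_toFinset, List.mem_map] at hw
    exact (mem_WJ_iff hp cs hc w).2 hw
  · intro w _
    rw [List.mem_toFinset, List.mem_map]
    exact (mem_WJ_iff hp cs hc w).1 w.2
  · intro w _; exact Finset.mem_univ _
  · intro w _; rfl
  · intro w _; rfl
  · intro w _; rfl

include hp in
theorem nonneg_iff {r : ℕ} (hr : r < D.nroots) : (0 : Fin l → ℤ) ≤ vec D l r ↔ D.neg r < r := by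
  have h1 := isPosRoot_iff hp.checked r
  have h2 := isPosRoot_iff_index hp.checked hr
  rw [← h2, h1]
  constructor
  · intro h0
    exact ⟨hr, fun i hi => h0 ⟨i, by rw [← hp.rank_eq]; exact hi⟩⟩
  · rintro ⟨-, h0⟩ i
    exact h0 i (by rw [hp.rank_eq]; exact i.2)

include hp cs in
theorem nonpos_iff [Finite W] {r : ℕ} (hr : r < D.nroots) : vec D l r ≤ (0 : Fin l → ℤ) ↔ ¬ D.neg r < r := by
  have hx : IsRoot cs hp.isCartan (vec D l r) := isRoot_vec hp cs hr
  rw [← nonneg_iff hp hr]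
  constructor
  · intro h1 h2
    exact hx.not_pos_neg h2 h1
  · intro h1
    rcases hx.pos_or_neg with h2 | h2
    · exact absurd h2 h1
    · exact h2

include hp in
/-- the number of inversions -/
theorem ncard_NW [Finite W] (ω : List (Fin l)) : (NW cs hp.isCartan (cs.wordProd ω)).ncard = inv D ω := by
  classical
  have h1 : NW cs hp.isCartan (cs.wordProd ω) =
      ((((List.range D.nroots).filter fun r => decide (D.neg r < r) &&
        !decide (D.neg (wact D ω r) < wact D ω r)).toFinset.image (vec D l) : Finset (Fin l → ℤ)) : Set (Fin l → ℤ)) := by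
    ext x
    rw [Finset.coe_image, Set.mem_image]
    constructor
    · rintro ⟨hx, h0, hneg⟩
      obtain ⟨r, hr, rfl⟩ := (isRoot_iff hp cs x).1 hx
      rw [rep_word hp cs ω hr, nonpos_iff hp cs (wact_lt hp ω hr)] at hneg
      rw [nonneg_iff hp hr] at h0
      refine ⟨r, ?_, rfl⟩
      rw [Finset.mem_coe, List.mem_toFinset, List.mem_filter, List.mem_range]
      refine ⟨hr, ?_⟩
      simp [h0, hneg]
    · rintro ⟨r, hr, rfl⟩
      rw [Finset.mem_coe, List.mem_toFinset, List.mem_filter, List.mem_range] at hr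
      obtain ⟨hr, h0⟩ := hr
      simp only [Bool.and_eq_true, decide_eq_true_eq, Bool.not_eq_true', decide_eq_false_iff_not] at h0
      refine ⟨isRoot_vec hp cs hr, (nonneg_iff hp hr).2 h0.1, ?_⟩
      rw [rep_word hp cs ω hr, nonpos_iff hp cs (wact_lt hp ω hr)]
      exact h0.2
  rw [h1, Set.ncard_coe_finset, Finset.card_image_of_injOn, List.toFinset_card_of_nodup]
  · rfl
  · exact List.Nodup.filter _ List.nodup_range
  · intro r hr s hs e
    rw [Finset.mem_coe, List.mem_toFinset, List.mem_filter, List.mem_range] at hr hs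
    exact vec_inj hp hr.1 hs.1 e

/-- **The order of a parabolic subgroup.** -/
theorem card_PJ_eq {K : Type u} [Field K] [Finite K] [Finite W] {p : ℕ}
    (R : RGD cs hp.isCartan p (TT D K) (nc hp K) (XX D l K)) (hX : ∀ x, IsRoot cs hp.isCartan x → Nat.card ↥(XX D l K x) = 2)
    (hT : TT D K = ⊥) {J : List (Fin l)} {L : List (List (Fin l))} (hc : chk D J L = true) :
    Nat.card ↥(PJ cs hp.isCartan (TT D K) (XX D l K) {i | i ∈ J}) =
      Nat.card ↥(RGD.Sup (XX D l K) (RGD.Pos cs hp.isCartan)) * (L.map fun ω => 2 ^ inv D ω).sum := by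
  classical
  have hft : Fintype ↥(WJ cs {i | i ∈ J}) := Fintype.ofFinite _
  have h1 := card_PJ_gen R {i | i ∈ J}
  have hT1 : Nat.card ↥(TT D K) = 1 := by rw [hT]; exact Subgroup.card_bot
  rw [h1, hT1, mul_one]
  congr 1
  have h2 : ∀ w : W, Nat.card ↥(RGD.Sup (XX D l K) (NW cs hp.isCartan w)) = 2 ^ (NW cs hp.isCartan w).ncard := fun w =>
    card_Sup_NW R hX w
  simp only [h2]
  rw [sum_WJ hp cs hc (fun w => 2 ^ (NW cs hp.isCartan w).ncard)]
  congr 1
  refine List.map_congr_left fun ω _ => ?_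
  rw [ncard_NW hp cs]

end Table

end Cfsg.Agent.H225.PPow.Card
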