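import Cfsg.Agent.H225.PPow.Chev

/-!
# Tables of separating coweights (helper225)
-/

set_option autoImplicit false
set_option linter.unusedSectionVars false

namespace Cfsg.Agent.H225.PPow

open Cfsg.Lie Cfsg.Lie.ChevalleyDatum
open Cfsg.Agent.ChevalleyStructure Cfsg.Agent.ChevalleyStructure.Elts Cfsg.Agent.ChevalleyStructure.RootVec
  Cfsg.Agent.ChevalleyStructure.RootVecTab
open Cfsg.Agent.Nodes.RGDChev

/-- the pairing with a root, computed from the packed table -/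
def prL (D : ChevalleyDatum) (r : ℕ) : List ℤ → ℕ → ℤ
  | [], _ => 0
  | a :: m, j => a * ((cart D j r : ℤ) - 8) + prL D r m (j + 1)

/-- the check -/
def chkT (D : ChevalleyDatum) (l : ℕ) (E : List ℤ) (i : ℕ) (L : List (List ℤ)) : Bool :=
  (List.range D.nroots).all fun r => r == D.simple i || r == D.neg (D.simple i) ||
    L.any fun m => m.length == l && prL D (D.simple i) m 0 == 0 && E.contains (prL D r m 0)

/-- coweights for `E6` -/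
def cwE6 : List (List (List ℤ)) :=
  [[[1, 2, 2, 3, 2, 1], [-1, -1, -2, -3, -2, -1], [0, 0, 0, -1, -1, -1], [0, -1, 0, 0, 0, -1]],
   [[0, 0, 0, 0, -1, 0], [0, 0, 0, 0, 0, -1], [1, 1, 1, 2, 1, 0], [1, 0, 0, 0, 1, -1]],
   [[1, 2, 2, 3, 2, 1], [1, 1, 1, 1, 1, 0], [0, 0, 0, 0, -1, 0], [-1, 0, -1, -1, 0, 0]],
   [[1, 2, 2, 3, 2, 1], [-1, -1, -2, -2, -1, 0], [1, 0, 1, 0, -1, -1], [-1, -1, 1, 0, 0, 1]],
   [[1, 2, 2, 3, 2, 1], [1, 1, 1, 2, 1, 0], [0, 0, 0, 1, 0, -1], [-1, -1, -2, -3, -2, -1]],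
   [[1, 2, 2, 3, 2, 1], [-1, -1, -2, -3, -2, -1], [-1, 0, -1, -1, 0, 0], [-1, 0, -1, 0, 0, 0]]]

/-- coweights for `E7` -/
def cwE7 : List (List (List ℤ)) :=
  [[[0, 0, 0, 0, 1, 0, -1], [0, -1, 0, -1, 0, 0, 0], [0, 0, 0, -1, 1, 1, 0], [0, 1, 0, -1, -1, -1, 1], [-1, -1, -2, -2, -2, -2, -1]],
   [[0, 0, 0, 0, 1, 0, -1], [1, 0, 1, 0, 0, 0, -1], [-1, 0, -1, 0, -1, -1, -1], [-1, 0, 1, 0, 0, -1, -1], [0, 0, 1, 0, 1, -1, 0]],
   [[0, 0, 0, 0, 1, 0, -1], [1, 0, 1, 1, 0, 0, -1], [1, 0, 1, 1, 1, 1, 0], [-1, 0, 0, 1, -1, -1, 1], [-1, 1, -1, -1, -1, 0, -1]],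
   [[0, 0, 1, 1, 1, 0, -1], [1, 0, 1, 1, 1, 1, 0], [1, 0, -1, 0, 1, 0, 0], [1, -1, -1, -1, 0, 0, 1], [-1, 1, 0, 1, 1, 0, 1]],
   [[1, 0, 1, 0, 0, 0, -1], [1, 0, -1, -1, -1, -1, 0], [-1, 1, 1, 0, 0, 0, 0], [0, -1, 0, -1, 0, 1, 1], [-1, 1, 0, 1, 1, 1, -1]],
   [[0, 0, 0, 0, 1, 0, -1], [-1, -1, -1, 0, 1, 1, 1], [-1, 1, 1, 0, 0, 0, 0], [0, 0, 1, 1, 1, 0, -1], [0, -1, 0, -1, 0, 0, 0]],
   [[0, -1, 0, -1, 0, 0, 0], [1, -1, 1, -1, -1, 0, 0], [0, 0, 1, 1, -1, 0, 0], [-1, -1, -1, 0, 1, 0, 0], [-1, 1, 1, 0, 0, 0, 0]]]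

/-- coweights for `E8` -/
def cwE8 : List (List (List ℤ)) :=
  [[[0, 0, 0, 1, 0, 1, 0, 0], [0, 1, 0, 0, -1, -1, -1, -1], [0, 1, 0, 0, 0, -1, -1, 0], [0, -1, 0, -1, -1, -1, -1, 1], [0, 0, 0, -1, -1, -1, -1, -1], [0, 0, 0, 0, 0, -1, 1, 1]],
   [[1, 0, 0, 0, 0, 0, 1, 1], [0, 0, -1, 0, -1, -1, -1, -1], [0, 0, 1, 0, 0, 1, 0, 0], [0, 0, 0, 0, 0, -1, 1, 1], [-2, -2, -3, -4, -3, -2, -2, -1], [1, 0, 0, 0, 0, -1, 1, 1]],
   [[0, 1, 0, 0, -1, -1, -1, -1], [0, 1, 0, 0, 0, -1, -1, 0], [1, 1, 1, 1, 1, 1, 0, -1], [0, -1, 0, 0, 1, 0, -1, -1], [-1, -3, -3, -5, -4, -3, -2, -1], [0, 0, 0, 0, 0, -1, 1, 1]],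
   [[0, 0, -1, -1, -1, -1, 0, -1], [0, 1, 0, 0, -1, -1, -1, -1], [0, 1, 0, 1, 1, 1, 0, -1], [0, -1, 0, 0, 1, 0, -1, -1], [-2, -3, -3, -5, -4, -3, -2, -1], [-1, -3, -3, -5, -4, -3, -2, -1]],
   [[0, 0, -1, -1, -1, -1, 0, -1], [0, 1, 0, 1, 1, 1, 0, -1], [0, 0, 1, 1, 0, -1, 0, 0], [1, 1, 0, 0, 0, 0, 0, 1], [-2, -3, -3, -5, -4, -3, -2, -1], [-1, 0, -1, -1, 0, 1, -1, 0]],
   [[0, 1, 0, 0, -1, -1, -1, -1], [0, 0, -1, 0, -1, -1, -1, -1], [0, 1, 1, 1, 1, 0, -1, -1], [1, 1, 0, 0, 0, 0, 0, 1], [0, -1, 0, -1, -1, -1, -1, 1], [-2, -3, -3, -5, -4, -3, -2, -1]],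
   [[0, 1, 0, 0, -1, -1, -1, -1], [0, 0, -1, 0, -1, -1, -1, -1], [0, 1, 0, 1, 1, 1, 0, -1], [-1, 1, -1, 1, 1, 0, 0, 0], [-2, -3, -3, -5, -4, -3, -2, -1], [-1, -3, -3, -5, -4, -3, -2, -1]],
   [[0, 0, 0, 1, 0, 1, 0, 0], [1, 0, 0, -1, 0, 0, 0, 0], [-2, -3, -3, -5, -4, -3, -2, -1], [1, 0, 0, 1, 1, 1, 0, 0], [-1, 1, -1, 1, 1, 0, 0, 0], [1, -1, 0, 1, 1, 1, 0, 0]]]

/-- coweights for `F4` -/
def cwF4 : List (List (List ℤ)) :=
  [[[0, 0, -1, 1], [-1, -2, -2, -2], [-1, -2, -2, -1]],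
   [[1, 0, -1, 0], [1, 1, 1, -1], [0, 1, 2, 1]],
   [[-1, -1, -2, -2], [-1, -1, -1, 0], [-1, -2, -2, 0]],
   [[0, 1, 2, 1], [0, 1, 0, 0], [-1, -2, -2, -1]]]

/-- coweights for `F4S` -/
def cwF4S : List (List (List ℤ)) :=
  [[[-1, -2, -2, -1], [0, 0, -1, -1], [-1, -2, -2, -2]],
   [[0, 1, 2, 1], [-1, -1, -1, -1], [-1, 0, 1, -1]]]

/-- coweights for `G2S` -/
def cwG2S : List (List (List ℤ)) :=
  [[[1, 2]]]

/-- coweights for `G2` -/
def cwG2 : List (List (List ℤ)) :=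
  [[[1, 2]],
   [[-2, -3]]]


theorem prL_eq {D : ChevalleyDatum} {l : ℕ} (hc : Checked D) (hl : D.rank = l) {r : ℕ} (hr : r < D.nroots) :
    ∀ (m : List ℤ) (j : ℕ), j + m.length = l →
      prL D r m j = ∑ k ∈ Finset.range m.length, m.getD k 0 * D.cartan (j + k) r := by
  intro m
  induction m with
  | nil => intro j _; simp [prL]
  | cons a m ih =>
    intro j hj
    rw [List.length_cons] at hj
    rw [prL, ih (j + 1) (by omega), List.length_cons, Finset.sum_range_succ', List.getD_cons_zero, add_zero,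
      add_comm, cartan_eq_cart hc (by omega) hr]
    congr 1
    refine Finset.sum_congr rfl fun k _ => ?_
    rw [List.getD_cons_succ]
    congr 2
    omega

theorem pr_of_list {D : ChevalleyDatum} {l : ℕ} (hc : Checked D) (hl : D.rank = l) {r : ℕ} (hr : r < D.nroots)
    (m : List ℤ) (hm : m.length = l) : pr D l (fun j => m.getD j 0) r = prL D r m 0 := by
  rw [prL_eq hc hl hr m 0 (by omega), pr, hm, ← Fin.sum_univ_eq_sum_range
    (fun k => m.getD k 0 * D.cartan (0 + k) r)]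
  refine Finset.sum_congr rfl fun j _ => ?_
  rw [zero_add]

theorem sepT_of {D : ChevalleyDatum} {l : ℕ} {M : CoxeterMatrix (Fin l)} (hp : IsType D l M) {E : List ℤ} {i : Fin l}
    {L : List (List ℤ)} (h : chkT D l E i L = true) : SepT D l E i := by
  intro r hr h1 h2
  unfold chkT at h
  rw [List.all_eq_true] at h
  have h3 := h r (List.mem_range.2 hr)
  simp only [Bool.or_eq_true, beq_iff_eq, h1, h2, false_or, List.any_eq_true, Bool.and_eq_true] at h3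
  obtain ⟨m, -, ⟨hm, h4⟩, h5⟩ := h3
  refine ⟨fun j => m.getD j 0, ?_, ?_⟩
  · rw [pr_of_list hp.checked hp.rank_eq (RootVec.simple_lt hp.checked (lt_rank hp i)) m hm]
    exact h4
  · rw [pr_of_list hp.checked hp.rank_eq hr m hm]
    exact List.contains_iff_mem.1 h5

theorem tabE6 : ((List.range 6).all fun i => chkT chevE6 6 [1, -1] i (cwE6.getD i [])) = true := by decide +kernel
theorem tabE7 : ((List.range 7).all fun i => chkT chevE7 7 [1, -1] i (cwE7.getD i [])) = true := by decide +kernel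
theorem tabE8 : ((List.range 8).all fun i => chkT chevE8 8 [1, -1] i (cwE8.getD i [])) = true := by decide +kernel
theorem tabF4 : ((List.range 4).all fun i => chkT chevF4 4 [1, -1, 2, -2] i (cwF4.getD i [])) = true := by
  decide +kernel
theorem tabF4S : ((List.range 2).all fun i => chkT chevF4 4 [1, -1] i (cwF4S.getD i [])) = true := by
  decide +kernel
theorem tabG2S : ((List.range 1).all fun i => chkT chevG2 2 [1, -1, 2, -2] i (cwG2S.getD i [])) = true := by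
  decide +kernel
theorem tabG2 : ((List.range 2).all fun i => chkT chevG2 2 [1, -1, 2, -2, 3, -3] i (cwG2.getD i [])) = true := by
  decide +kernel

theorem of_tab {D : ChevalleyDatum} {l : ℕ} {M : CoxeterMatrix (Fin l)} (hp : IsType D l M) {E : List ℤ} {k : ℕ}
    {L : List (List (List ℤ))} (h : ((List.range k).all fun i => chkT D l E i (L.getD i [])) = true) (i : Fin l)
    (hi : (i : ℕ) < k) : SepT D l E i :=
  sepT_of hp ((List.all_eq_true.1 h) i (List.mem_range.2 hi))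

end Cfsg.Agent.H225.PPow
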