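import Cfsg.Agent.H225.PPow.Rgd

/-!
# Subgroups of 2-power index over the field with two elements: abstract part (helper225)

* `Add` : functions `Y → ZMod 2` additive on a subgroup;
* `pull` : a functional on `U` vanishing on `H ∩ U` and conjugation by an element normalising the radical;
* `bot_of_uncov` : the uncovered case;
* `exists_add` : functionals vanishing on a proper subgroup of a 2-group;
* `a2` : the `A₂` residue;
* `no315` : groups of order 315.
-/

set_option autoImplicit false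
set_option linter.unusedSectionVars false

namespace Cfsg.Agent.H225.PPow.Two

open Subgroup Cfsg.Agent.Nodes.BNOf

variable {Y : Type*} [Group Y]

/-- additive functions -/
def Add (f : Y → ZMod 2) (Q : Subgroup Y) : Prop := ∀ a ∈ Q, ∀ b ∈ Q, f (a * b) = f a + f b

section Add

variable {f : Y → ZMod 2} {Q : Subgroup Y}

theorem Add.one (hf : Add f Q) : f 1 = 0 := by
  have h := hf 1 (one_mem _) 1 (one_mem _)
  rw [one_mul] at h
  exact left_eq_add.1 h

theorem Add.inv (hf : Add f Q) {a : Y} (ha : a ∈ Q) : f a⁻¹ = f a := by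
  have h := hf a ha a⁻¹ (inv_mem ha)
  rw [mul_inv_cancel, hf.one] at h
  have h2 : ∀ x y : ZMod 2, 0 = x + y → y = x := by decide
  exact h2 _ _ h

theorem Add.conj (hf : Add f Q) {q a : Y} (hq : q ∈ Q) (ha : a ∈ Q) : f (q * a * q⁻¹) = f a := by
  rw [hf _ (mul_mem hq ha) _ (inv_mem hq), hf _ hq _ ha, hf.inv hq]
  have h2 : ∀ x y : ZMod 2, x + y + x = y := by decide
  exact h2 _ _

theorem Add.mono (hf : Add f Q) {Q' : Subgroup Y} (h : Q' ≤ Q) : Add f Q' :=
  fun a ha b hb => hf a (h ha) b (h hb)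

theorem Add.add {g : Y → ZMod 2} (hf : Add f Q) (hg : Add g Q) : Add (fun u => f u + g u) Q := by
  intro a ha b hb
  change f (a * b) + g (a * b) = (f a + g a) + (f b + g b)
  rw [hf a ha b hb, hg a ha b hb]; ring

theorem Add.sum {ι : Type*} {e : ι → Y → ZMod 2} {S : Finset ι} (h : ∀ i ∈ S, Add (e i) Q) :
    Add (fun u => ∑ i ∈ S, e i u) Q := by
  intro a ha b hb
  change ∑ i ∈ S, e i (a * b) = ∑ i ∈ S, e i a + ∑ i ∈ S, e i b
  rw [← Finset.sum_add_distrib]
  exact Finset.sum_congr rfl fun i hi => h i hi a ha b hb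

theorem Add.comp (hf : Add f Q) {g : Y} {Q' : Subgroup Y} (h : ∀ a ∈ Q', g * a * g⁻¹ ∈ Q) :
    Add (fun u => f (g * u * g⁻¹)) Q' := by
  intro a ha b hb
  change f (g * (a * b) * g⁻¹) = f (g * a * g⁻¹) + f (g * b * g⁻¹)
  rw [← hf _ (h a ha) _ (h b hb)]
  congr 1
  group

/-- the kernel -/
def Add.ker (hf : Add f Q) : Subgroup Y where
  carrier := {u | u ∈ Q ∧ f u = 0}
  one_mem' := ⟨one_mem _, hf.one⟩
  mul_mem' := fun {a b} ha hb => ⟨mul_mem ha.1 hb.1, by rw [hf a ha.1 b hb.1, ha.2, hb.2, add_zero]⟩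
  inv_mem' := fun {a} ha => ⟨inv_mem ha.1, by rw [hf.inv ha.1, ha.2]⟩

theorem Add.zero_of_gen {I : Type*} [Fintype I] [DecidableEq I] {X : (I → ℤ) → Subgroup Y} {S : Set (I → ℤ)} (hf : Add f (RGD.Sup X S))
    (h : ∀ x ∈ S, ∀ u ∈ X x, f u = 0) : ∀ u ∈ RGD.Sup X S, f u = 0 := by
  intro u hu
  have h1 : RGD.Sup X S ≤ hf.ker := RGD.Sup_le fun x hx v hv => ⟨RGD.le_Sup hx hv, h x hx v hv⟩
  exact (h1 hu).2

end Add

/-- a functional on `U` vanishing on `H ∩ U`, conjugated by an element normalising `Q` -/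
theorem pull {H U Q : Subgroup Y} (hmul : ∀ g : Y, ∃ u ∈ U, ∃ x ∈ H, g = u * x) {f : Y → ZMod 2} (hf : Add f U)
    (hQU : Q ≤ U) (hUQ : ∀ u ∈ U, ∀ a ∈ Q, u * a * u⁻¹ ∈ Q) (hfV : ∀ v ∈ H, v ∈ U → f v = 0) {p : Y}
    (hp : ∀ a ∈ Q, p * a * p⁻¹ ∈ Q) {v : Y} (hv : v ∈ H) (hvQ : v ∈ Q) : f (p * v * p⁻¹) = 0 := by
  obtain ⟨u, hu, x, hx, rfl⟩ := hmul p
  have h1 : x * v * x⁻¹ ∈ Q := by
    have h2 := hUQ _ (inv_mem hu) _ (hp v hvQ)
    have e : u⁻¹ * (u * x * v * (u * x)⁻¹) * u⁻¹⁻¹ = x * v * x⁻¹ := by group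
    rwa [e] at h2
  have h3 : x * v * x⁻¹ ∈ H := mul_mem (mul_mem hx hv) (inv_mem hx)
  have e : u * x * v * (u * x)⁻¹ = u * (x * v * x⁻¹) * u⁻¹ := by group
  rw [e, hf.conj hu (hQU h1)]
  exact hfV _ h3 (hQU h1)

/-- **The uncovered case**: `H ∩ U = 1`. -/
theorem bot_of_uncov [IsSimpleGroup Y] {H U : Subgroup Y} (hU : U ≠ ⊤)
    (hmul : ∀ g : Y, ∃ u ∈ U, ∃ x ∈ H, g = u * x) {ι : Type*} (Q : ι → Subgroup Y) (n : ι → Y)
    (hgen : closure ((U : Set Y) ∪ Set.range n) = ⊤) (hQU : ∀ i, Q i ≤ U)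
    (hUQ : ∀ i, ∀ u ∈ U, ∀ a ∈ Q i, u * a * u⁻¹ ∈ Q i) (hnQ : ∀ i, ∀ a ∈ Q i, n i * a * (n i)⁻¹ ∈ Q i)
    (hnQ' : ∀ i, ∀ a ∈ Q i, (n i)⁻¹ * a * n i ∈ Q i) (hV : ∀ i, H ⊓ U ≤ Q i) : H ⊓ U = ⊥ := by
  -- every element is `h u` with `h` normalising `V`
  have key : ∀ g : Y, ∃ h ∈ H, (∀ v ∈ H ⊓ U, h⁻¹ * v * h ∈ H ⊓ U) ∧ ∃ u ∈ U, g = h * u := by
    intro g
    have hg : g ∈ closure ((U : Set Y) ∪ Set.range n) := by rw [hgen]; exact mem_top _
    have step : ∀ (i : ι) (m : Y), (∀ a ∈ Q i, m⁻¹ * a * m ∈ Q i) → ∀ g : Y,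
        (∃ h ∈ H, (∀ v ∈ H ⊓ U, h⁻¹ * v * h ∈ H ⊓ U) ∧ ∃ u ∈ U, g = h * u) →
        ∃ h ∈ H, (∀ v ∈ H ⊓ U, h⁻¹ * v * h ∈ H ⊓ U) ∧ ∃ u ∈ U, g * m = h * u := by
      rintro i m hm _ ⟨h, hh, hhV, u, hu, rfl⟩
      obtain ⟨u', hu', x, hx, e⟩ := hmul (u * m)⁻¹
      have e1 : u * m = x⁻¹ * u'⁻¹ := by rw [← mul_inv_rev, ← e, inv_inv]
      have e2 : x⁻¹ = u * m * u' := by rw [e1]; group
      refine ⟨h * x⁻¹, mul_mem hh (inv_mem hx), fun v hv => ?_, u'⁻¹, inv_mem hu', ?_⟩
      · have h1 := hhV v hv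
        have h2 : x⁻¹⁻¹ * (h⁻¹ * v * h) * x⁻¹ ∈ Q i := by
          have h3 := hUQ i _ (inv_mem hu) _ (hV i h1)
          have h4 := hUQ i _ (inv_mem hu') _ (hm _ h3)
          rw [e2]
          have e3 : (u * m * u')⁻¹ * (h⁻¹ * v * h) * (u * m * u') =
              u'⁻¹ * (m⁻¹ * (u⁻¹ * (h⁻¹ * v * h) * u⁻¹⁻¹) * m) * u'⁻¹⁻¹ := by group
          rw [e3]
          exact h4
        have e4 : (h * x⁻¹)⁻¹ * v * (h * x⁻¹) = x⁻¹⁻¹ * (h⁻¹ * v * h) * x⁻¹ := by group
        rw [e4]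
        refine Subgroup.mem_inf.2 ⟨?_, hQU i h2⟩
        exact mul_mem (mul_mem (inv_mem (inv_mem hx)) (Subgroup.mem_inf.1 h1).1) (inv_mem hx)
      · rw [mul_assoc, e1]; group
    have stepU : ∀ m ∈ U, ∀ g : Y,
        (∃ h ∈ H, (∀ v ∈ H ⊓ U, h⁻¹ * v * h ∈ H ⊓ U) ∧ ∃ u ∈ U, g = h * u) →
        ∃ h ∈ H, (∀ v ∈ H ⊓ U, h⁻¹ * v * h ∈ H ⊓ U) ∧ ∃ u ∈ U, g * m = h * u := by
      rintro m hm _ ⟨h, hh, hhV, u, hu, rfl⟩
      exact ⟨h, hh, hhV, u * m, mul_mem hu hm, by group⟩
    induction hg using Subgroup.closure_induction_right with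
    | one => exact ⟨1, one_mem _, fun v hv => by simpa using hv, 1, one_mem _, by group⟩
    | mul_right x hx y hy ih =>
      rcases hy with hy | ⟨i, rfl⟩
      · exact stepU y hy _ ih
      · exact step i _ (hnQ' i) _ ih
    | mul_inv_cancel x hx y hy ih =>
      rcases hy with hy | ⟨i, rfl⟩
      · exact stepU _ (inv_mem hy) _ ih
      · exact step i _ (fun a ha => by rw [inv_inv]; exact hnQ i a ha) _ ih
  have h1 : normalClosure ((H ⊓ U : Subgroup Y) : Set Y) ≤ U := by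
    rw [normalClosure, closure_le]
    intro w hw
    rw [Group.mem_conjugatesOfSet_iff] at hw
    obtain ⟨v, hv, hvw⟩ := hw
    obtain ⟨g, rfl⟩ := isConj_iff.1 hvw
    obtain ⟨h, hh, hhV, u, hu, e⟩ := key g⁻¹
    have e2 : g = u⁻¹ * h⁻¹ := by rw [← mul_inv_rev, ← e, inv_inv]
    rw [e2]
    have e3 : u⁻¹ * h⁻¹ * v * (u⁻¹ * h⁻¹)⁻¹ = u⁻¹ * (h⁻¹ * v * h) * u⁻¹⁻¹ := by group
    rw [e3]
    exact mul_mem (mul_mem (inv_mem hu) (Subgroup.mem_inf.1 (hhV v hv)).2) (inv_mem (inv_mem hu))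
  rcases (inferInstance : (normalClosure ((H ⊓ U : Subgroup Y) : Set Y)).Normal).eq_bot_or_eq_top with h2 | h2
  · rw [eq_bot_iff]
    exact le_normalClosure.trans h2.le
  · exact absurd (top_le_iff.1 (h2 ▸ h1)) hU

/-- functionals on a 2-group vanishing on a proper subgroup -/
theorem exists_add [Finite Y] {U V : Subgroup Y} (hU : IsPGroup 2 ↥U) (hVU : V ≤ U) (hne : V ≠ U) :
    ∃ χ : Y → ZMod 2, Add χ U ∧ (∀ v ∈ V, χ v = 0) ∧ ∃ u ∈ U, χ u = 1 := by
  classical
  have : Fact (Nat.Prime 2) := ⟨Nat.prime_two⟩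
  obtain ⟨n, hn⟩ := hU.exists_card_eq
  obtain ⟨m, hm⟩ := (hU.to_subgroup (V.subgroupOf U)).exists_card_eq
  have hlt : Nat.card (V.subgroupOf U) < Nat.card U := by
    have h1 : Nat.card (V.subgroupOf U) ≤ Nat.card U := Subgroup.card_le_card_group _
    refine lt_of_le_of_ne h1 fun h2 => hne (le_antisymm hVU ?_)
    have h3 := Subgroup.eq_top_of_card_eq _ h2
    exact Subgroup.subgroupOf_eq_top.1 h3
  have hmn : m < n := by
    rw [hn, hm] at hlt
    exact (Nat.pow_lt_pow_iff_right (by norm_num)).1 hlt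
  obtain ⟨N, rfl⟩ : ∃ N, n = N + 1 := ⟨n - 1, by omega⟩
  obtain ⟨K, hK, hVK⟩ := Sylow.exists_subgroup_card_pow_prime_le (G := ↥U) 2 (n := m) (m := N)
    (by rw [hn]; exact pow_dvd_pow 2 (by omega)) (V.subgroupOf U) hm (by omega)
  have hKi : K.index = 2 := by
    have h1 := K.card_mul_index
    rw [hK, hn, pow_succ] at h1
    exact Nat.eq_of_mul_eq_mul_left (by positivity) h1
  refine ⟨fun u => if h : u ∈ U then (if (⟨u, h⟩ : ↥U) ∈ K then 0 else 1) else 1, ?_, ?_, ?_⟩
  · intro a ha b hb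
    have hab : a * b ∈ U := mul_mem ha hb
    simp only [ha, hb, hab, dif_pos]
    have h1 := Subgroup.mul_mem_iff_of_index_two hKi (a := ⟨a, ha⟩) (b := ⟨b, hb⟩)
    have h2 : (⟨a, ha⟩ * ⟨b, hb⟩ : ↥U) = ⟨a * b, hab⟩ := rfl
    rw [h2] at h1
    by_cases h3 : (⟨a, ha⟩ : ↥U) ∈ K <;> by_cases h4 : (⟨b, hb⟩ : ↥U) ∈ K <;> simp [h1, h3, h4]
    exact (CharTwo.add_self_eq_zero (1 : ZMod 2)).symm
  · intro v hv
    have h1 : v ∈ U := hVU hv
    have h2 : (⟨v, h1⟩ : ↥U) ∈ K := hVK (Subgroup.mem_subgroupOf.2 hv)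
    simp [h1, h2]
  · by_contra hcon
    push Not at hcon
    have h1 : K = ⊤ := by
      rw [eq_top_iff]
      rintro ⟨u, hu⟩ _
      by_contra h2
      exact hcon u hu (by simp [hu, h2])
    rw [h1, Subgroup.index_top] at hKi
    omega

/-! ### The `A₂` residue -/

/-- the preimage of the image of `H` modulo `Q` -/
def mod (H Q : Subgroup Y) : Subgroup Y where
  carrier := {g | g ∈ normalizer (Q : Set Y) ∧ ∃ q ∈ Q, g * q ∈ H}
  one_mem' := ⟨one_mem _, 1, one_mem _, by rw [mul_one]; exact one_mem _⟩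
  mul_mem' := by
    rintro a b ⟨ha, q, hq, haq⟩ ⟨hb, r, hr, hbr⟩
    refine ⟨mul_mem ha hb, b⁻¹ * q * b * r, mul_mem ?_ hr, ?_⟩
    · have := (mem_normalizer_iff.1 (inv_mem hb) q).1 hq
      rwa [inv_inv] at this
    · have := mul_mem haq hbr
      have e : a * b * (b⁻¹ * q * b * r) = a * q * (b * r) := by group
      rwa [e]
  inv_mem' := by
    rintro a ⟨ha, q, hq, haq⟩
    refine ⟨inv_mem ha, a * q⁻¹ * a⁻¹, (mem_normalizer_iff.1 ha _).1 (inv_mem hq), ?_⟩
    have := inv_mem haq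
    have e : a⁻¹ * (a * q⁻¹ * a⁻¹) = (a * q)⁻¹ := by group
    rwa [e]

theorem mem_mod {H Q : Subgroup Y} {g : Y} : g ∈ mod H Q ↔ g ∈ normalizer (Q : Set Y) ∧ ∃ q ∈ Q, g * q ∈ H := Iff.rfl

theorem le_mod {H Q : Subgroup Y} : Q ≤ mod H Q := fun q hq =>
  ⟨le_normalizer hq, q⁻¹, inv_mem hq, by rw [mul_inv_cancel]; exact one_mem _⟩

/-- **The `A₂` residue over the field with two elements.** -/
theorem a2 {H U Q : Subgroup Y} (hmul : ∀ g : Y, ∃ u ∈ U, ∃ x ∈ H, g = u * x)
    (hUN : U ≤ normalizer (Q : Set Y)) {a b z m n : Y} (ha : a ∈ U) (hb : b ∈ U) (ha2 : a * a = 1) (hb2 : b * b = 1)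
    (hz : z = a * b * a * b) (hm : m * z * m⁻¹ = a) (hn : n * z * n⁻¹ = b) (hmN : m ∈ normalizer (Q : Set Y))
    (hnN : n ∈ normalizer (Q : Set Y)) (hcz : ∀ u ∈ U, u * z * u⁻¹ * z⁻¹ ∈ Q) (za : z * a = a * z)
    (zb : z * b = b * z) {v w q : Y} (hv : v ∈ H) (hq : q ∈ Q) (hvw : v = w * q)
    (hw : w = a ∨ w = a * z ∨ w = a * b ∨ w = a * b * z) :
    (∃ q ∈ Q, a * q ∈ H) ∧ (∃ q ∈ Q, b * q ∈ H) := by
  have hzU : z ∈ U := by rw [hz]; exact mul_mem (mul_mem (mul_mem ha hb) ha) hb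
  have hzz : z * z = 1 := by
    have h1 : z⁻¹ = z := by
      calc z⁻¹ = (a * b * a * b)⁻¹ := by rw [hz]
        _ = b⁻¹ * a⁻¹ * b⁻¹ * a⁻¹ := by group
        _ = b * a * b * a := by
          rw [inv_eq_of_mul_eq_one_right ha2, inv_eq_of_mul_eq_one_right hb2]
        _ = a * a * (b * a * b * a) := by rw [ha2, one_mul]
        _ = a * (a * b * a * b) * a := by group
        _ = a * z * a := by rw [← hz]
        _ = z * (a * a) := by rw [← za, mul_assoc]
        _ = z := by rw [ha2, mul_one]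
    calc z * z = z⁻¹ * z := by rw [h1]
      _ = 1 := inv_mul_cancel z
  -- conjugates of `z`
  have key : ∀ g ∈ normalizer (Q : Set Y), (g * z * g⁻¹ ∈ mod H Q ↔ z ∈ mod H Q) := by
    intro g hg
    obtain ⟨u, hu, x, hx, e⟩ := hmul g⁻¹
    have e1 : g = x⁻¹ * u⁻¹ := by rw [← mul_inv_rev, ← e, inv_inv]
    have hxN : x⁻¹ ∈ normalizer (Q : Set Y) := by
      have : x⁻¹ = g * u := by rw [e1]; group
      rw [this]; exact mul_mem hg (hUN hu)
    have hxm : x⁻¹ ∈ mod H Q := ⟨hxN, 1, one_mem _, by rw [mul_one]; exact inv_mem hx⟩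
    have h1 : u⁻¹ * z * u⁻¹⁻¹ * z⁻¹ ∈ mod H Q := le_mod (hcz _ (inv_mem hu))
    have e2 : g * z * g⁻¹ = x⁻¹ * (u⁻¹ * z * u⁻¹⁻¹ * z⁻¹ * z) * x⁻¹⁻¹ := by rw [e1]; group
    rw [e2]
    constructor
    · intro h2
      have h3 := mul_mem (mul_mem (inv_mem hxm) h2) hxm
      have e3 : x⁻¹⁻¹ * (x⁻¹ * (u⁻¹ * z * u⁻¹⁻¹ * z⁻¹ * z) * x⁻¹⁻¹) * x⁻¹ = (u⁻¹ * z * u⁻¹⁻¹ * z⁻¹) * z := by group
      rw [e3] at h3
      have h4 := mul_mem (inv_mem h1) h3
      rwa [inv_mul_cancel_left] at h4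
    · intro h2
      exact mul_mem (mul_mem hxm (mul_mem h1 h2)) (inv_mem hxm)
  have hwm : w ∈ mod H Q := by
    have hwU : w ∈ U := by
      rcases hw with rfl | rfl | rfl | rfl
      · exact ha
      · exact mul_mem ha hzU
      · exact mul_mem ha hb
      · exact mul_mem (mul_mem ha hb) hzU
    exact ⟨hUN hwU, q, hq, by rw [← hvw]; exact hv⟩
  have hzm : z ∈ mod H Q := by
    rcases hw with rfl | rfl | rfl | rfl
    · rw [← hm] at hwm
      exact (key m hmN).1 hwm
    · have e : a * z = (b * m) * z * (b * m)⁻¹ := by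
        have e1 : (b * m) * z * (b * m)⁻¹ = b * (m * z * m⁻¹) * b⁻¹ := by group
        rw [e1, hm, inv_eq_of_mul_eq_one_right hb2, hz]
        calc a * (a * b * a * b) = (a * a) * b * a * b := by group
          _ = b * a * b := by rw [ha2, one_mul]
      rw [e] at hwm
      exact (key _ (mul_mem (hUN hb) hmN)).1 hwm
    · have h1 := mul_mem hwm hwm
      have e : a * b * (a * b) = z := by rw [hz]; group
      rwa [e] at h1
    · have h1 := mul_mem hwm hwm
      have e : a * b * z * (a * b * z) = z := by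
        calc a * b * z * (a * b * z) = a * b * (z * a) * b * z := by group
          _ = a * b * (a * z) * b * z := by rw [za]
          _ = a * b * a * (z * b) * z := by group
          _ = a * b * a * (b * z) * z := by rw [zb]
          _ = (a * b * a * b) * (z * z) := by group
          _ = z := by rw [← hz, hzz, mul_one]
      rwa [e] at h1
  have ham : a ∈ mod H Q := by
    have := (key m hmN).2 hzm
    rwa [hm] at this
  have hbm : b ∈ mod H Q := by
    have := (key n hnN).2 hzm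
    rwa [hn] at this
  exact ⟨ham.2, hbm.2⟩

/-! ### Groups of order 315 -/

section Order

variable {G : Type*} [Group G] [Finite G]

theorem comm_five {C : Subgroup G} [hn : C.Normal] (hC : Nat.card C = 5) {g : G} (hg : (orderOf g).Coprime 4) :
    ∀ c ∈ C, g * c = c * g := by
  have h5 : Fact (Nat.Prime 5) := ⟨by norm_num⟩
  have hcyc : IsCyclic C := isCyclic_of_prime_card hC
  have h1 : Nat.card (MulAut C) = 4 := by
    rw [IsCyclic.card_mulAut, hC]
    decide
  have h2 : orderOf (MulAut.conjNormal (H := C) g) ∣ orderOf g := orderOf_map_dvd _ _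
  have h3 : orderOf (MulAut.conjNormal (H := C) g) ∣ 4 := h1 ▸ orderOf_dvd_natCard _
  have h4 : MulAut.conjNormal (H := C) g = 1 := by
    rw [← orderOf_eq_one_iff]
    exact Nat.eq_one_of_dvd_coprimes hg h2 h3
  intro c hc
  have h6 : (MulAut.conjNormal (H := C) g ⟨c, hc⟩ : G) = g * c * g⁻¹ := MulAut.conjNormal_apply g ⟨c, hc⟩
  rw [h4] at h6
  have h7 : c = g * c * g⁻¹ := h6
  calc g * c = g * c * g⁻¹ * g := by group
    _ = c * g := by rw [← h7]

/-- the index of the normaliser of a Sylow subgroup given by its order -/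
theorem syl {p : ℕ} [Fact p.Prime] {P : Subgroup G} {k m : ℕ} (hG : Nat.card G = p ^ k * m) (hm : ¬ p ∣ m)
    (hP : Nat.card P = p ^ k) : (normalizer (P : Set G)).index ∣ m ∧ (normalizer (P : Set G)).index ≡ 1 [MOD p] ∧
      ((normalizer (P : Set G)).index = 1 → ∀ Q : Subgroup G, IsPGroup p Q → Q ≤ P) := by
  have hp := (Fact.out : p.Prime)
  have hm0 : m ≠ 0 := by rintro rfl; exact hm (dvd_zero _)
  have hf : (Nat.card G).factorization p = k := by
    rw [hG, Nat.factorization_mul (pow_ne_zero _ hp.ne_zero) hm0, Finsupp.add_apply, hp.factorization_pow,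
      Finsupp.single_eq_same, Nat.factorization_eq_zero_of_not_dvd hm, add_zero]
  let S : Sylow p G := Sylow.ofCard P (by rw [hP, hf])
  have hS : (S : Subgroup G) = P := rfl
  have h1 : Nat.card (Sylow p G) = (normalizer (P : Set G)).index := S.card_eq_index_normalizer
  refine ⟨?_, ?_, fun h2 Q hQ => ?_⟩
  · have h3 : P.index = m := by
      have h4 := P.card_mul_index
      rw [hP, hG] at h4
      exact Nat.eq_of_mul_eq_mul_left (pow_pos hp.pos _) h4
    rw [← h3]
    exact Subgroup.index_dvd_of_le le_normalizer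
  · rw [← h1]
    exact card_sylow_modEq_one p G
  · rw [h2] at h1
    obtain ⟨S', hS'⟩ := hQ.exists_le_sylow
    have h5 : S' = S := by
      have := (Nat.card_eq_one_iff_unique.1 h1).1
      exact Subsingleton.elim _ _
    rw [h5, hS] at hS'
    exact hS'

theorem no315 (hG : Nat.card G = 315) {A B E : Subgroup G} (hA : Nat.card A = 21) (hB : Nat.card B = 21)
    (hE : Nat.card E = 9) (hAB : Nat.card (A ⊓ B : Subgroup G) = 3) (hAE : Nat.card (A ⊓ E : Subgroup G) = 3)
    (hne : A ⊓ B ≠ A ⊓ E) : False := by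
  have h3 : Fact (Nat.Prime 3) := ⟨by norm_num⟩
  have h5 : Fact (Nat.Prime 5) := ⟨by norm_num⟩
  have h7 : Fact (Nat.Prime 7) := ⟨by norm_num⟩
  obtain ⟨e1, e2, e3⟩ := syl (p := 3) (P := E) (k := 2) (m := 35) (by rw [hG]; norm_num) (by norm_num) (by rw [hE]; norm_num)
  have h37 : (normalizer (E : Set G)).index = 1 ∨ (normalizer (E : Set G)).index = 7 := by
    have h8 : (normalizer (E : Set G)).index ∈ Nat.divisors 35 := Nat.mem_divisors.2 ⟨e1, by norm_num⟩
    have h9 : Nat.divisors 35 = {1, 5, 7, 35} := by decide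
    rw [h9] at h8
    simp only [Finset.mem_insert, Finset.mem_singleton] at h8
    rcases h8 with h | h | h | h <;> rw [h] at e2 ⊢
    · left; rfl
    · exact absurd e2 (by decide)
    · right; rfl
    · exact absurd e2 (by decide)
  rcases h37 with h1 | h1
  · -- `E` is normal
    have h2 : A ⊓ B ≤ E := e3 h1 _ (IsPGroup.of_card (n := 1) (by rw [hAB, pow_one]))
    have h4 : A ⊓ B ≤ A ⊓ E := le_inf inf_le_left h2
    exact hne (Subgroup.eq_of_le_of_card_ge h4 (by rw [hAB, hAE]))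
  -- `|N(E)| = 45`
  have hN : Nat.card (normalizer (E : Set G)) = 45 := by
    have h2 := (normalizer (E : Set G)).card_mul_index
    rw [h1, hG] at h2
    omega
  -- a normal subgroup of order 5 of `N(E)`
  obtain ⟨Q⟩ : Nonempty (Sylow 5 ↥(normalizer (E : Set G))) := inferInstance
  have hQ : Nat.card Q = 5 := by
    rw [Q.card_eq_multiplicity, hN]
    have : (45 : ℕ).factorization 5 = 1 := by
      rw [show (45 : ℕ) = 5 * 9 by norm_num, Nat.factorization_mul (by norm_num) (by norm_num), Finsupp.add_apply,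
        Nat.Prime.factorization_self h5.out, Nat.factorization_eq_zero_of_not_dvd (by norm_num)]
    rw [this, pow_one]
  obtain ⟨q1, q2, -⟩ := syl (p := 5) (P := (Q : Subgroup _)) (k := 1) (m := 9) (by rw [hN]; norm_num) (by norm_num)
    (by rw [pow_one]; exact hQ)
  have q3 : (normalizer ((Q : Subgroup ↥(normalizer (E : Set G))) : Set ↥(normalizer (E : Set G)))).index = 1 := by
    have h8 := Nat.mem_divisors.2 ⟨q1, by norm_num⟩
    have h9 : Nat.divisors 9 = {1, 3, 9} := by decide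
    rw [h9] at h8
    simp only [Finset.mem_insert, Finset.mem_singleton] at h8
    rcases h8 with h | h | h <;> rw [h] at q2 ⊢
    · exact absurd q2 (by decide)
    · exact absurd q2 (by decide)
  have hQn : (Q : Subgroup ↥(normalizer (E : Set G))).Normal := by
    rw [← normalizer_eq_top_iff]
    exact Subgroup.index_eq_one.1 q3
  let C : Subgroup G := (Q : Subgroup ↥(normalizer (E : Set G))).map (normalizer (E : Set G)).subtype
  have hC : Nat.card C = 5 := by
    rw [← hQ]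
    exact Nat.card_congr (Subgroup.equivMapOfInjective _ _ (Subgroup.subtype_injective _)).symm.toEquiv
  have hEC : ∀ e ∈ E, ∀ c ∈ C, e * c = c * e := by
    rintro e he _ ⟨c, hc, rfl⟩
    have h8 : (orderOf (⟨e, le_normalizer he⟩ : ↥(normalizer (E : Set G)))).Coprime 4 := by
      have h9 : orderOf (⟨e, le_normalizer he⟩ : ↥(normalizer (E : Set G))) ∣ 9 := by
        rw [← hE, Subgroup.orderOf_mk]
        exact Subgroup.orderOf_dvd_natCard _ he
      exact Nat.Coprime.coprime_dvd_left h9 (by decide)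
    exact congrArg Subtype.val (comm_five hQ h8 c hc)
  have hEn : E ≤ normalizer (C : Set G) := by
    intro e he
    rw [mem_normalizer_iff]
    intro c
    constructor
    · intro hc
      rw [hEC e he c hc, mul_inv_cancel_right]; exact hc
    · intro hc
      have h8 := hEC e⁻¹ (inv_mem he) _ hc
      have h9 : e⁻¹ * (e * c * e⁻¹) * e = c := by group
      rw [h8, mul_assoc] at h9
      rw [inv_mul_cancel, mul_one] at h9
      rw [← h9]; exact hc
  obtain ⟨c1, c2, -⟩ := syl (p := 5) (P := C) (k := 1) (m := 63) (by rw [hG]; norm_num) (by norm_num) (by rw [pow_one]; exact hC)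
  have hCn : C.Normal := by
    rw [← normalizer_eq_top_iff, ← Subgroup.index_eq_one]
    have h8 : 9 ∣ Nat.card (normalizer (C : Set G)) := hE ▸ Subgroup.card_dvd_of_le hEn
    have h9 : 5 ∣ Nat.card (normalizer (C : Set G)) := hC ▸ Subgroup.card_dvd_of_le le_normalizer
    have h10 : 45 ∣ Nat.card (normalizer (C : Set G)) := Nat.Coprime.mul_dvd_of_dvd_of_dvd (by decide) h8 h9
    obtain ⟨k, hk⟩ := h10
    have h11 := (normalizer (C : Set G)).card_mul_index
    rw [hk, hG, mul_assoc] at h11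
    have h12 : k * (normalizer (C : Set G)).index = 7 := by omega
    have h13 : (normalizer (C : Set G)).index ∣ 7 := ⟨k, by rw [← h12]; ring⟩
    rcases (Nat.dvd_prime h7.out).1 h13 with h | h
    · exact h
    · rw [h] at c2
      exact absurd c2 (by decide)
  -- the Sylow 7-subgroup is normal
  have key : ∀ A : Subgroup G, Nat.card A = 21 → ∃ P ≤ A, Nat.card P = 7 ∧
      (normalizer (P : Set G)).index = 1 := by
    intro A hA
    obtain ⟨S⟩ : Nonempty (Sylow 7 A) := inferInstance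
    have hS : Nat.card S = 7 := by
      rw [S.card_eq_multiplicity, hA]
      have : (21 : ℕ).factorization 7 = 1 := by
        rw [show (21 : ℕ) = 7 * 3 by norm_num, Nat.factorization_mul (by norm_num) (by norm_num), Finsupp.add_apply,
          Nat.Prime.factorization_self h7.out, Nat.factorization_eq_zero_of_not_dvd (by norm_num)]
      rw [this, pow_one]
    obtain ⟨s1, s2, -⟩ := syl (p := 7) (P := (S : Subgroup A)) (k := 1) (m := 3) (by rw [hA]; norm_num) (by norm_num)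
      (by rw [pow_one]; exact hS)
    have s3 : (normalizer ((S : Subgroup A) : Set A)).index = 1 := by
      rcases (Nat.dvd_prime h3.out).1 s1 with h | h
      · exact h
      · rw [h] at s2
        exact absurd s2 (by decide)
    have hSn : (S : Subgroup A).Normal := by
      rw [← normalizer_eq_top_iff]
      exact Subgroup.index_eq_one.1 s3
    let P : Subgroup G := (S : Subgroup A).map A.subtype
    have hP : Nat.card P = 7 := by
      rw [← hS]
      exact Nat.card_congr (Subgroup.equivMapOfInjective _ _ (Subgroup.subtype_injective _)).symm.toEquiv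
    have hAP : A ≤ normalizer (P : Set G) := by
      intro a ha
      rw [mem_normalizer_iff]
      intro x
      constructor
      · rintro ⟨y, hy, rfl⟩
        exact ⟨_, hSn.conj_mem y hy ⟨a, ha⟩, rfl⟩
      · rintro ⟨y, hy, e⟩
        refine ⟨_, hSn.conj_mem y hy ⟨a⁻¹, inv_mem ha⟩, ?_⟩
        change a⁻¹ * (A.subtype y) * a⁻¹⁻¹ = x
        rw [e]; group
    have hPC : ∀ c ∈ C, ∀ x ∈ P, c * x = x * c := by
      intro c hc x hx
      have h8 : (orderOf x).Coprime 4 := by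
        have h9 : orderOf x ∣ 7 := hP ▸ Subgroup.orderOf_dvd_natCard _ hx
        exact Nat.Coprime.coprime_dvd_left h9 (by decide)
      exact (comm_five hC h8 c hc).symm
    have hCP : C ≤ normalizer (P : Set G) := by
      intro c hc
      rw [mem_normalizer_iff]
      intro x
      constructor
      · intro hx
        rw [hPC c hc x hx, mul_inv_cancel_right]; exact hx
      · intro hx
        have h8 := hPC c⁻¹ (inv_mem hc) _ hx
        have h9 : c⁻¹ * (c * x * c⁻¹) * c = x := by group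
        rw [h8, mul_assoc] at h9
        rw [inv_mul_cancel, mul_one] at h9
        rw [← h9]; exact hx
    refine ⟨P, Subgroup.map_subtype_le _, hP, ?_⟩
    obtain ⟨p1, p2, -⟩ := syl (p := 7) (P := P) (k := 1) (m := 45) (by rw [hG]; norm_num) (by norm_num) (by rw [pow_one]; exact hP)
    have h8 : 21 ∣ Nat.card (normalizer (P : Set G)) := hA ▸ Subgroup.card_dvd_of_le hAP
    have h9 : 5 ∣ Nat.card (normalizer (P : Set G)) := hC ▸ Subgroup.card_dvd_of_le hCP
    have h10 : 21 * 5 ∣ Nat.card (normalizer (P : Set G)) := Nat.Coprime.mul_dvd_of_dvd_of_dvd (by decide) h8 h9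
    obtain ⟨k, hk⟩ := h10
    have h11 := (normalizer (P : Set G)).card_mul_index
    rw [hk, hG, mul_assoc] at h11
    have h12 : k * (normalizer (P : Set G)).index = 3 := by omega
    have h13 : (normalizer (P : Set G)).index ∣ 3 := ⟨k, by rw [← h12]; ring⟩
    rcases (Nat.dvd_prime h3.out).1 h13 with h | h
    · exact h
    · rw [h] at p2
      exact absurd p2 (by decide)
  obtain ⟨P, hPA, hP, hPn⟩ := key A hA
  obtain ⟨P', hPB, hP', -⟩ := key B hB
  obtain ⟨-, -, p3⟩ := syl (p := 7) (P := P) (k := 1) (m := 45) (by rw [hG]; norm_num) (by norm_num) (by rw [pow_one]; exact hP)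
  have h8 : P' ≤ P := p3 hPn _ (IsPGroup.of_card (n := 1) (by rw [hP', pow_one]))
  have h9 : P' ≤ A ⊓ B := le_inf (h8.trans hPA) hPB
  have h10 := Subgroup.card_dvd_of_le h9
  rw [hP', hAB] at h10
  exact absurd h10 (by decide)

end Order

end Cfsg.Agent.H225.PPow.Two
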