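import Cfsg.Agent.H225.PPow.TwoH
import Cfsg.Agent.H225.PPow.ExcE
import Cfsg.Agent.H225.PPow.TwoTab

/-!
# Subgroups of 2-power index of `E_8(2)` (helper225)
-/

set_option autoImplicit false

namespace Cfsg.Agent.H225.PPow

open Cfsg Cfsg.Lie Cfsg.Lie.ChevalleyDatum
open Cfsg.Agent.ChevalleyStructure Cfsg.Agent.ChevalleyStructure.Elts Cfsg.Agent.ChevalleyStructure.CoxeterGeom
  Cfsg.Agent.ChevalleyStructure.CoxeterGeomTypes
open Cfsg.Agent.KFacts.SLRow.Def
open Cfsg.Agent.H225.PPow.Two

universe u

/-- the words -/
def wordsE8 : List (List (Fin 8)) := [[], [0], [2], [3], [2, 0], [3, 0], [0, 2], [3, 2], [2, 3], [0, 2, 0], [3, 2, 0], [2, 3, 0], [3, 0, 2], [2, 3, 2], [0, 2, 3], [3, 0, 2, 0], [2, 3, 2, 0], [0, 2, 3, 0], [2, 3, 0, 2], [0, 2, 3, 2], [2, 3, 0, 2, 0], [0, 2, 3, 2, 0], [0, 2, 3, 0, 2], [0, 2, 3, 0, 2, 0]]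
/-- the tables of the reflections 0, 2, 3 -/
def tabsE8 : List ℕ := [89010710832726070714151161094414522261048587326581510595392028524030207563957026801107561780730543875635899695872657540013727267355752929009945983259756149830046491061614462711827468647410691219483793969699872786852253216181086040217948769591709564461412580249235256415527480204464476331546285723345807496788342194623506928674460502856817942549765057009024427281542244180397900240359504473124310118170232911525014401390998667463253019886626284409262937152958555578213187162928665144744945462487135302530904835859273767658661597756841433802992835089440598390061610903988634517760, 0,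
  89010710832725745165782235459872475154280622121245305451935284189796891986609553508120115617800247381425903506913793501621740144058856426409726296520870105944088071210077208036158123281336922507974837557012631125147342853176418750825867691433342788636856825459490268921107323757655376441022236038140059219790486132896388440655383746867478063393865412376222232171226315736044435218013124881770230153482484127468225324367815592321859374033917761553313348740424564716417650837788186550135374827969386553419933334973793356178552598849513931315254120302644802431154599699746591473920,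
  89010710832640042910111002570656357653715391413141566596331023776964856083669365258548140478906507872628955595684419254834843229232697776527642939107948214787375489097164882990093468904723498389665687901900427190291264427804358237891932228052664145351264877813819956450891804972988388003365098856358027288215824823748769396133189946047224742087238448032137898031788973343765419247008549016964559503462021292736161599259527505720347129268890925678250880711178934622972084815217513580310228965341853079554683461698062554884656178636540855221896711318667953180723757473301824405760]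
theorem nrE8 : chevE8.nroots = 240 := by decide +kernel
theorem chkTabE8 : Card.chkTab chevE8 ([0, 2, 3] : List (Fin 8)) 240 tabsE8 = true := by decide +kernel
theorem cabcE8 : Card.chk chevE8 [0, 2, 3] wordsE8 = true := by decide +kernel
theorem nabcE8 : (wordsE8.map fun ω => 2 ^ Card.inv chevE8 ω).sum = 315 :=
  Card.sum_inv type_E8 nrE8 chkTabE8 (by decide +kernel) (by decide +kernel)
theorem caE8 : Card.chk chevE8 [0] ([[], [0]] : List (List (Fin 8))) = true := by decide +kernel
theorem naE8 : (([[], [0]] : List (List (Fin 8))).map fun ω => 2 ^ Card.inv chevE8 ω).sum = 3 :=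
  Card.sum_inv type_E8 nrE8 chkTabE8 (by decide +kernel) (by decide +kernel)
theorem cbE8 : Card.chk chevE8 [2] ([[], [2]] : List (List (Fin 8))) = true := by decide +kernel
theorem nbE8 : (([[], [2]] : List (List (Fin 8))).map fun ω => 2 ^ Card.inv chevE8 ω).sum = 3 :=
  Card.sum_inv type_E8 nrE8 chkTabE8 (by decide +kernel) (by decide +kernel)
theorem cabE8 : Card.chk chevE8 [0, 2] ([[], [0], [2], [2, 0], [0, 2], [0, 2, 0]] : List (List (Fin 8))) = true := by decide +kernel
theorem nabE8 : (([[], [0], [2], [2, 0], [0, 2], [0, 2, 0]] : List (List (Fin 8))).map fun ω => 2 ^ Card.inv chevE8 ω).sum = 21 :=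
  Card.sum_inv type_E8 nrE8 chkTabE8 (by decide +kernel) (by decide +kernel)
theorem cbcE8 : Card.chk chevE8 [2, 3] ([[], [2], [3], [3, 2], [2, 3], [2, 3, 2]] : List (List (Fin 8))) = true := by decide +kernel
theorem nbcE8 : (([[], [2], [3], [3, 2], [2, 3], [2, 3, 2]] : List (List (Fin 8))).map fun ω => 2 ^ Card.inv chevE8 ω).sum = 21 :=
  Card.sum_inv type_E8 nrE8 chkTabE8 (by decide +kernel) (by decide +kernel)
theorem cacE8 : Card.chk chevE8 [0, 3] ([[], [0], [3], [3, 0]] : List (List (Fin 8))) = true := by decide +kernel
theorem nacE8 : (([[], [0], [3], [3, 0]] : List (List (Fin 8))).map fun ω => 2 ^ Card.inv chevE8 ω).sum = 9 :=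
  Card.sum_inv type_E8 nrE8 chkTabE8 (by decide +kernel) (by decide +kernel)
theorem ordE8 : Ord chevE8 8 0 2 3 [[], [0]] [[], [2]] [[], [0], [2], [2, 0], [0, 2], [0, 2, 0]] [[], [2], [3], [3, 2], [2, 3], [2, 3, 2]] [[], [0], [3], [3, 0]] wordsE8 :=
  ⟨by decide, by decide, by decide, caE8, naE8, cbE8, nbE8, cabE8, nabE8, cbcE8, nbcE8, cacE8,
    nacE8, cabcE8, nabcE8⟩

end Cfsg.Agent.H225.PPow
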